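import Cfsg.Agent.H812.TC.SpSplit
import Cfsg.Agent.H767.S44.Row

/-!
# S2464, row `PSp_4(q)`, `q ≥ 4` even (helper812)
-/

set_option autoImplicit false

namespace Cfsg.Agent.H812.TC.EvenRow

/-- `2^k - 1` has a prime divisor `≥ 5` for `k ≥ 3` -/
theorem exists_prime_five {k : ℕ} (hk : 3 ≤ k) : ∃ r : ℕ, r.Prime ∧ 5 ≤ r ∧ r ∣ 2 ^ k - 1 := by
  by_contra hcon
  push Not at hcon
  have h8 : 2 ^ k = 8 * 2 ^ (k - 3) := by
    rw [show (8 : ℕ) = 2 ^ 3 by norm_num, ← pow_add]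
    congr 1
    omega
  have hpos : 1 ≤ 2 ^ (k - 3) := Nat.one_le_two_pow
  have h3 : ∀ r : ℕ, r.Prime → r ∣ 2 ^ k - 1 → r = 3 := fun r hr hd => by
    have h5 : r < 5 := by
      by_contra h
      exact hcon r hr (by omega) hd
    have h2 := hr.two_le
    have h6 : r = 2 ∨ r = 3 ∨ r = 4 := by omega
    rcases h6 with rfl | rfl | rfl
    · omega
    · rfl
    · exact absurd hr (by decide)
  have h4 : 2 ^ k - 1 = 3 ^ (2 ^ k - 1).primeFactorsList.length :=
    Nat.eq_prime_pow_of_unique_prime_dvd (by omega) (fun {d} hd hdd => h3 d hd hdd)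
  have h5 : ∀ n : ℕ, 3 ^ n % 8 = 1 ∨ 3 ^ n % 8 = 3 := by
    intro n
    induction n with
    | zero => left; norm_num
    | succ n ih =>
      rw [pow_succ]
      omega
  have h6 := h5 (2 ^ k - 1).primeFactorsList.length
  rw [← h4] at h6
  omega

variable {F : Type} [Field F] [Fintype F]

theorem row3_even (h3 : 3 ≤ Fintype.card F) (he : Fintype.card F % 2 = 0) : H210.TC.Row3 (Cfsg.PSp 2 F) := by
  obtain ⟨p, hp⟩ := CharP.exists F
  have hpp : Fact p.Prime := ⟨CharP.char_is_prime F p⟩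
  obtain ⟨k, -, hF⟩ := FiniteField.card F p
  have h2 : p = 2 := by
    have h1 : 2 ∣ p ^ (k : ℕ) := by rw [← hF]; exact Nat.dvd_of_mod_eq_zero he
    exact ((Nat.prime_dvd_prime_iff_eq Nat.prime_two hpp.out).1 (Nat.prime_two.dvd_of_dvd_pow h1)).symm
  subst h2
  rcases Nat.lt_or_ge (k : ℕ) 3 with hk | hk
  · have h4 : (k : ℕ) = 1 ∨ (k : ℕ) = 2 := by have := k.pos; omega
    rcases h4 with h4 | h4
    · rw [hF, h4] at h3
      norm_num at h3
    · exact H767.S44.row3_psp_two_four (by rw [hF, h4]; norm_num)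
  · obtain ⟨r, hr, h5, hd⟩ := exists_prime_five hk
    exact SpSplit.row3_split hr h5 (by rw [hF]; exact hd)

end Cfsg.Agent.H812.TC.EvenRow
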