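import Mathlib.RingTheory.Polynomial.Cyclotomic.Factorization
import Cfsg.Agent.H104.RowPSp
import Cfsg.Agent.H193.SsConj
import Cfsg.Agent.H175.SympConj
import Cfsg.Agent.H210.TC.Row
import Cfsg.Agent.LieClassical.SympCount

/-!
# S2464, row `PSp_4(q)`: the class of an element of prime order dividing `q² + 1` (helper812)

* `exists_prime` : a prime `r ≥ 5` with `ord_r q = 4`;
* `irr_charpoly` : an element of order `r` of `GL_4(q)` has an irreducible characteristic polynomial;
* `isConj_of` : two elements of `Sp_4(q)` with the same characteristic polynomial as an element of order `r` are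
  conjugate in `Sp_4(q)`;
* `row3_of` : the row from the product theorem.
-/

set_option autoImplicit false

namespace Cfsg.Agent.H812.TC.SpF

open Matrix Polynomial

variable {F : Type} [Field F] [Fintype F]

theorem cast_card_ne {r : ℕ} (hr : r.Prime) (h4 : orderOf ((Fintype.card F : ℕ) : ZMod r) = 4) {p : ℕ} [CharP F p] :
    p ≠ r := by
  rintro rfl
  have hrr : Fact p.Prime := ⟨hr⟩
  obtain ⟨f, -, hF⟩ := FiniteField.card F p
  have h0 : ((Fintype.card F : ℕ) : ZMod p) = 0 := by
    rw [hF]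
    push_cast
    rw [ZMod.natCast_self, zero_pow f.pos.ne']
  rw [h0] at h4
  have h5 : (0 : ZMod p) ^ 4 = 1 := by rw [← h4]; exact pow_orderOf_eq_one _
  rw [zero_pow (by norm_num)] at h5
  exact zero_ne_one h5

theorem irr_charpoly {ι : Type*} [Fintype ι] [DecidableEq ι] {r : ℕ} (hr : r.Prime)
    (h4 : orderOf ((Fintype.card F : ℕ) : ZMod r) = 4) (hι : Fintype.card ι = 4) {M : Matrix ι ι F} (hM : M ^ r = 1)
    (h1 : M ≠ 1) : Irreducible M.charpoly := by
  classical
  obtain ⟨p, hp⟩ := CharP.exists F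
  have hpp : Fact p.Prime := ⟨CharP.char_is_prime F p⟩
  obtain ⟨f, -, hF⟩ := FiniteField.card F p
  have hrr : Fact r.Prime := ⟨hr⟩
  have hpr : p ≠ r := cast_card_ne (F := F) hr h4
  have hn : p.Coprime r := (Nat.coprime_primes hpp.out hr).2 hpr
  have hnc : ¬ IsCoprime M.charpoly (cyclotomic r F) := by
    rintro ⟨a, b, hab⟩
    have e1 := congrArg (aeval M) hab
    simp only [map_add, map_mul, aeval_self_charpoly, mul_zero, zero_add, map_one] at e1
    have e2 := congrArg (aeval M) (cyclotomic_prime_mul_X_sub_one F r)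
    simp only [map_mul, map_sub, map_pow, aeval_X, map_one, hM, sub_self] at e2
    apply h1
    have e3 : M - 1 = 0 := by
      calc M - 1 = (aeval M b * aeval M (cyclotomic r F)) * (M - 1) := by rw [e1, one_mul]
        _ = 0 := by rw [mul_assoc, e2, mul_zero]
    exact sub_eq_zero.1 e3
  obtain ⟨P, hP, hP1, hP2⟩ : ∃ P : F[X], Irreducible P ∧ P ∣ M.charpoly ∧ P ∣ cyclotomic r F := by
    by_contra hcon
    push Not at hcon
    exact hnc (isCoprime_of_irreducible_dvd (fun h => M.charpoly_monic.ne_zero h.1) fun z hz hz1 => hcon z hz hz1)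
  have hdeg : P.natDegree = 4 := by
    rw [natDegree_of_dvd_cyclotomic_of_irreducible hF hn hP2 hP, ← h4, ← orderOf_units, ZMod.coe_unitOfCoprime, hF]
  have hass : Associated P M.charpoly := associated_of_dvd_of_natDegree_le hP1 M.charpoly_monic.ne_zero
    (by rw [hdeg, M.charpoly_natDegree_eq_dim, hι])
  exact hass.irreducible hP

theorem isConj_of {r : ℕ} (hr : r.Prime) (h4 : orderOf ((Fintype.card F : ℕ) : ZMod r) = 4)
    {x y : symplecticGroup (Fin 2) F} (hx : x ^ r = 1) (hx1 : x ≠ 1) (h : y.1.charpoly = x.1.charpoly) : IsConj x y := by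
  classical
  obtain ⟨p, hp⟩ := CharP.exists F
  have hpp : Fact p.Prime := ⟨CharP.char_is_prime F p⟩
  have hpr : p ≠ r := cast_card_ne (F := F) hr h4
  have hirr : Irreducible x.1.charpoly := by
    refine irr_charpoly hr h4 (by simp) (M := x.1) ?_ (fun h1 => hx1 (Subtype.ext h1))
    have := congrArg Subtype.val hx
    rwa [SubmonoidClass.coe_pow] at this
  let e : symplecticGroup (Fin 2) F →* GL (Fin 2 ⊕ Fin 2) F := (symplecticGroup (Fin 2) F).subtype.toHomUnits
  have he : ∀ z : symplecticGroup (Fin 2) F, ((e z : GL (Fin 2 ⊕ Fin 2) F) : Matrix _ _ F) = z.1 := fun z => rfl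
  have hc : IsConj (e x) (e y) := by
    refine H193.SsConj.isConj_of_charpoly (e x) (e y) x.1.charpoly hirr.squarefree ?_ ?_ ?_
    · rw [he]; exact aeval_self_charpoly _
    · rw [he, ← h]; exact aeval_self_charpoly _
    · rw [he, he, h]
  obtain ⟨c, hc⟩ := isConj_iff.1 hc
  refine H175.SympConj.exists_conj (p := p) x y ?_ (c : Matrix (Fin 2 ⊕ Fin 2) (Fin 2 ⊕ Fin 2) F) c.isUnit ?_
  · exact Nat.Coprime.coprime_dvd_left (orderOf_dvd_of_pow_eq_one hx) ((Nat.coprime_primes hr hpp.out).2 (Ne.symm hpr))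
  · have h1 : c * e x = e y * c := by rw [← hc]; group
    exact congrArg Units.val h1

/-- the row from the product theorem -/
theorem row3_of {r : ℕ} (hr : r.Prime) (h5 : 5 ≤ r) (h4 : orderOf ((Fintype.card F : ℕ) : ZMod r) = 4)
    {x : symplecticGroup (Fin 2) F} (hx : orderOf x = r)
    (H : ∀ g : symplecticGroup (Fin 2) F, g ∉ Subgroup.center (symplecticGroup (Fin 2) F) →
      ∃ A B : symplecticGroup (Fin 2) F, g = A * B ∧ A.1.charpoly = x.1.charpoly ∧ B.1.charpoly = x.1.charpoly) :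
    H210.TC.Row3 (PSp 2 F) := by
  have hxr : x ^ r = 1 := by rw [← hx]; exact pow_orderOf_eq_one x
  have hx1 : x ≠ 1 := by
    rintro rfl
    rw [orderOf_one] at hx
    omega
  let π : symplecticGroup (Fin 2) F →* PSp 2 F := QuotientGroup.mk' _
  have hxπ : π x ≠ 1 := fun h => hx1 (H104.RowPSp.center_free (m := 2) (by norm_num) hr (by omega) x hxr h)
  have ho : orderOf (π x) = r := by
    have h1 : orderOf (π x) ∣ r := orderOf_dvd_of_pow_eq_one (by rw [← map_pow, hxr, map_one])
    rcases (Nat.dvd_prime hr).1 h1 with h2 | h2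
    · exact absurd (orderOf_eq_one_iff.1 h2) hxπ
    · exact h2
  refine H210.TC.Row3.of_sq (x := π x) (by rw [ho]; exact hr) ?_ ?_
  · rw [ho]
    have h2 : Nat.Coprime r 2 := (Nat.coprime_primes hr Nat.prime_two).2 (by omega)
    have h3 : Nat.Coprime r 3 := (Nat.coprime_primes hr Nat.prime_three).2 (by omega)
    exact Nat.Coprime.mul_right h2 h3
  · intro g hg
    obtain ⟨g', rfl⟩ := QuotientGroup.mk'_surjective _ g
    have hg' : g' ∉ Subgroup.center (symplecticGroup (Fin 2) F) := fun h => hg ((QuotientGroup.eq_one_iff g').2 h)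
    obtain ⟨A, B, e, hA, hB⟩ := H g' hg'
    obtain ⟨u, hu⟩ := isConj_iff.1 (isConj_of hr h4 hxr hx1 hA)
    obtain ⟨v, hv⟩ := isConj_iff.1 (isConj_of hr h4 hxr hx1 hB)
    refine ⟨π u, π v, ?_⟩
    rw [e, ← hu, ← hv]
    simp only [map_mul, map_inv]
    rfl

/-- the row from the product theorem up to sign (`x = y` is real, so transvections are products only up to sign) -/
theorem row3_sign {r : ℕ} (hr : r.Prime) (h5 : 5 ≤ r) (h4 : orderOf ((Fintype.card F : ℕ) : ZMod r) = 4)
    {x : symplecticGroup (Fin 2) F} (hx : orderOf x = r)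
    (H : ∀ g : symplecticGroup (Fin 2) F, g ∉ Subgroup.center (symplecticGroup (Fin 2) F) →
      ∃ A B : symplecticGroup (Fin 2) F, (A.1 * B.1 = g.1 ∨ A.1 * B.1 = -g.1) ∧
        A.1.charpoly = x.1.charpoly ∧ B.1.charpoly = x.1.charpoly) :
    H210.TC.Row3 (PSp 2 F) := by
  have hxr : x ^ r = 1 := by rw [← hx]; exact pow_orderOf_eq_one x
  have hx1 : x ≠ 1 := by
    rintro rfl
    rw [orderOf_one] at hx
    omega
  let π : symplecticGroup (Fin 2) F →* PSp 2 F := QuotientGroup.mk' _
  have hxπ : π x ≠ 1 := fun h => hx1 (H104.RowPSp.center_free (m := 2) (by norm_num) hr (by omega) x hxr h)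
  have ho : orderOf (π x) = r := by
    have h1 : orderOf (π x) ∣ r := orderOf_dvd_of_pow_eq_one (by rw [← map_pow, hxr, map_one])
    rcases (Nat.dvd_prime hr).1 h1 with h2 | h2
    · exact absurd (orderOf_eq_one_iff.1 h2) hxπ
    · exact h2
  refine H210.TC.Row3.of_sq (x := π x) (by rw [ho]; exact hr) ?_ ?_
  · rw [ho]
    have h2 : Nat.Coprime r 2 := (Nat.coprime_primes hr Nat.prime_two).2 (by omega)
    have h3 : Nat.Coprime r 3 := (Nat.coprime_primes hr Nat.prime_three).2 (by omega)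
    exact Nat.Coprime.mul_right h2 h3
  · intro g hg
    obtain ⟨g', rfl⟩ := QuotientGroup.mk'_surjective _ g
    have hg' : g' ∉ Subgroup.center (symplecticGroup (Fin 2) F) := fun h => hg ((QuotientGroup.eq_one_iff g').2 h)
    obtain ⟨A, B, e, hA, hB⟩ := H g' hg'
    obtain ⟨u, hu⟩ := isConj_iff.1 (isConj_of hr h4 hxr hx1 hA)
    obtain ⟨v, hv⟩ := isConj_iff.1 (isConj_of hr h4 hxr hx1 hB)
    refine ⟨π u, π v, ?_⟩
    have key : π g' = π (A * B) := by
      rcases e with e | e
      · rw [show A * B = g' from Subtype.ext e]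
      · refine (QuotientGroup.eq).2 ?_
        rw [LieClassical.SympCenter.mem_center_iff]
        refine ⟨-1, ?_⟩
        have h4' : g'⁻¹.1 * g'.1 = 1 := by
          have := congrArg Subtype.val (inv_mul_cancel g')
          rwa [Submonoid.coe_mul] at this
        show (g'⁻¹ * (A * B)).1 = _
        rw [Submonoid.coe_mul, Submonoid.coe_mul, e, mul_neg, h4']
        simp
    show π g' = _
    rw [key, ← hu, ← hv]
    simp only [map_mul, map_inv]

/-- a prime `r ≥ 5` with `ord_r q = 4` and an element of order `r` -/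
theorem exists_elt (hF : 3 ≤ Fintype.card F) : ∃ r : ℕ, r.Prime ∧ 5 ≤ r ∧ orderOf ((Fintype.card F : ℕ) : ZMod r) = 4 ∧
    ∃ x : symplecticGroup (Fin 2) F, orderOf x = r := by
  obtain ⟨q, hq⟩ : ∃ q, Fintype.card F = q := ⟨_, rfl⟩
  rw [hq] at hF ⊢
  -- a prime `r ≠ 2` dividing `q² + 1`
  obtain ⟨r, hr, hr2, hrd⟩ : ∃ r : ℕ, r.Prime ∧ r ≠ 2 ∧ r ∣ q ^ 2 + 1 := by
    by_contra hcon
    push Not at hcon
    have h2 : ∀ r : ℕ, r.Prime → r ∣ q ^ 2 + 1 → r = 2 := fun r hr hd => by
      by_contra h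
      exact hcon r hr h hd
    have h3 : q ^ 2 + 1 = 2 ^ (q ^ 2 + 1).primeFactorsList.length :=
      Nat.eq_prime_pow_of_unique_prime_dvd (by positivity) (fun {d} hd hdd => h2 d hd hdd)
    have h4 : ∀ n : ℕ, n % 4 = 0 ∨ n % 4 = 1 ∨ n % 4 = 2 ∨ n % 4 = 3 := fun n => by omega
    have h5 : (q ^ 2 + 1) % 4 ≠ 0 := by
      rw [pow_two]
      rcases h4 q with h | h | h | h <;> simp [Nat.add_mod, Nat.mul_mod, h]
    have h6 : 9 ≤ q ^ 2 := by nlinarith
    rcases hk : (q ^ 2 + 1).primeFactorsList.length with _ | _ | k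
    · rw [hk] at h3
      norm_num at h3
      omega
    · rw [hk] at h3
      norm_num at h3
      omega
    · rw [hk] at h3
      apply h5
      rw [h3, pow_add]
      omega
  have hrr : Fact r.Prime := ⟨hr⟩
  have hr3 : r ≠ 3 := by
    rintro rfl
    have h4 : (q ^ 2 + 1) % 3 = 0 := Nat.mod_eq_zero_of_dvd hrd
    have h5 : q % 3 = 0 ∨ q % 3 = 1 ∨ q % 3 = 2 := by omega
    rw [pow_two] at h4
    rcases h5 with h | h | h <;> simp [Nat.add_mod, Nat.mul_mod, h] at h4
  have hr5 : 5 ≤ r := by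
    have h1 := hr.two_le
    by_contra h
    have h4 : r = 4 := by omega
    rw [h4] at hr
    exact absurd hr (by decide)
  have hz : ((q : ℕ) : ZMod r) ^ 2 = -1 := by
    have h1 : ((q ^ 2 + 1 : ℕ) : ZMod r) = 0 := (ZMod.natCast_eq_zero_iff _ _).2 hrd
    push_cast at h1
    exact eq_neg_of_add_eq_zero_left h1
  have hne : (-1 : ZMod r) ≠ 1 := by
    intro h
    have h2 : ((2 : ℕ) : ZMod r) = 0 := by
      push_cast
      linear_combination -h
    have := (ZMod.natCast_eq_zero_iff _ _).1 h2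
    have := Nat.le_of_dvd (by norm_num) this
    omega
  have h4 : orderOf ((q : ℕ) : ZMod r) = 4 := by
    have : orderOf ((q : ℕ) : ZMod r) = 2 ^ (1 + 1) := by
      refine orderOf_eq_prime_pow ?_ ?_
      · rw [pow_one, hz]; exact hne
      · show ((q : ℕ) : ZMod r) ^ (2 * 2) = 1
        rw [pow_mul, hz]; norm_num
    simpa using this
  refine ⟨r, hr, hr5, h4, ?_⟩
  have hd : r ∣ Nat.card (symplecticGroup (Fin 2) F) := by
    rw [LieClassical.SympCount.card_symplecticGroup, hq]
    refine Dvd.dvd.mul_left ?_ _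
    refine Dvd.dvd.trans ?_ (Finset.dvd_prod_of_mem _ (Finset.mem_range.2 (show 1 < 2 by norm_num)))
    have h1 : q ^ (2 * (1 + 1)) - 1 = (q ^ 2 + 1) * (q ^ 2 - 1) := by
      have h2 : 1 ≤ q ^ 2 := Nat.one_le_pow _ _ (by omega)
      obtain ⟨c, hc⟩ := Nat.exists_eq_add_of_le h2
      have h3 : q ^ (2 * (1 + 1)) = (q ^ 2) ^ 2 := by ring
      rw [h3, hc]
      have h4 : (1 + c) ^ 2 = (1 + c + 1) * c + 1 := by ring
      rw [h4]
      simp
    rw [h1]
    exact hrd.mul_right _
  exact exists_prime_orderOf_dvd_card' r hd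

end Cfsg.Agent.H812.TC.SpF
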