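import Cfsg.Agent.H812.TC.Deg

/-!
# S2464, row `PSp_4(q)`: the framed elements (helper812, formula of helper877)
-/

set_option autoImplicit false

namespace Cfsg.Agent.H812.TC.Gen

open Matrix Polynomial Deg

variable {F : Type*} [Field F]

/-- the normal form -/
def NN (ε ζ η a b c : F) : Matrix (Fin 4) (Fin 4) F :=
  !![0, 0, -ε⁻¹, 0; 0, 0, η * ζ⁻¹ * ε⁻¹, -ζ⁻¹; ε, η, c, b; 0, ζ, (ζ * b - η * a) * ε⁻¹, a]

def GA (l m r s t : F) : Matrix (Fin 4) (Fin 4) F :=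
  !![0, 0, 0, -m⁻¹; l, 0, r, l * t * m⁻¹; 0, m, t, s; 0, 0, l⁻¹, 0]

def GB (l m r s t ε ζ η a b c : F) : Matrix (Fin 4) (Fin 4) F :=
  !![0, -(r * ζ), -(t * ε⁻¹) + η * l⁻¹ * ζ⁻¹ * ε⁻¹ - r * ((ζ * b - η * a) * ε⁻¹), -(l⁻¹ * ζ⁻¹) - r * a;
    ε * m⁻¹, η * m⁻¹ - l * t * m⁻¹ * ζ, -(s * ε⁻¹) + c * m⁻¹ - l * t * m⁻¹ * ((ζ * b - η * a) * ε⁻¹),
      b * m⁻¹ - l * t * m⁻¹ * a;
    0, l * ζ, l * ((ζ * b - η * a) * ε⁻¹), l * a;
    0, 0, m * ε⁻¹, 0]

variable {l m r s t ε ζ η a b c : F}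

theorem sp_GA (hl : l ≠ 0) (hm : m ≠ 0) : Sp (GA l m r s t) := by
  refine sp_mk _ ?_ ?_ ?_ ?_ ?_ ?_ <;> simp [GA] <;> field_simp <;> ring

theorem sp_GB (hl : l ≠ 0) (hm : m ≠ 0) (hε : ε ≠ 0) (hζ : ζ ≠ 0) : Sp (GB l m r s t ε ζ η a b c) := by
  refine sp_mk _ ?_ ?_ ?_ ?_ ?_ ?_ <;> simp [GB] <;> field_simp <;> ring

theorem GA_mul_GB (hl : l ≠ 0) (hm : m ≠ 0) (hε : ε ≠ 0) (hζ : ζ ≠ 0) :
    GA l m r s t * GB l m r s t ε ζ η a b c = NN ε ζ η a b c := by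
  ext i j
  fin_cases i <;> fin_cases j <;> simp [GA, GB, NN, Matrix.mul_apply, Fin.sum_univ_succ] <;> field_simp <;> ring

theorem charpoly_GA (hl : l ≠ 0) (hm : m ≠ 0) {e : F} (h : -r * m - s * l⁻¹ = e) :
    (GA l m r s t).charpoly = pol t e := by
  refine charpoly_fin4 _ _ _ ?_ ?_ ?_ ?_
  · simp [GA]
  · rw [← h]; simp [GA]; ring
  · simp [GA]; field_simp
  · rw [Matrix.det_succ_row_zero]
    simp [Fin.sum_univ_succ, Matrix.det_fin_three, GA, Fin.succAbove]; field_simp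

theorem charpoly_GB (hl : l ≠ 0) (hm : m ≠ 0) (hε : ε ≠ 0) (hζ : ζ ≠ 0) {e : F}
    (h1 : η * m⁻¹ - l * t * m⁻¹ * ζ + l * ((ζ * b - η * a) * ε⁻¹) = t)
    (h2 : r * ζ * ε * m⁻¹ + l * ((ζ * b - η * a) * ε⁻¹) * η * m⁻¹ + s * l * ζ * ε⁻¹ - c * l * ζ * m⁻¹
      - l * a * m * ε⁻¹ = e) :
    (GB l m r s t ε ζ η a b c).charpoly = pol t e := by
  refine charpoly_fin4 _ _ _ ?_ ?_ ?_ ?_
  · refine Eq.trans ?_ h1
    simp [GB]
  · rw [← h2]; simp [GB]; ring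
  · conv_rhs => rw [← h1]
    simp [GB]; field_simp; ring
  · rw [Matrix.det_succ_row_zero]
    simp [Fin.sum_univ_succ, Matrix.det_fin_three, GB, Fin.succAbove]; field_simp; ring


/-- the choice of `l` -/
theorem exists_l [Fintype F] (hF : 8 ≤ Fintype.card F) (ht : t ≠ 0) (hζ : ζ ≠ 0) (g ε η : F) :
    ∃ l : F, l ≠ 0 ∧ t - l * g ≠ 0 ∧ η - ζ * l * t ≠ 0 ∧ l * (η - ζ * l * t) ≠ ε * (t - l * g) ∧
      l * (η - ζ * l * t) ≠ -(ε * (t - l * g)) := by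
  classical
  let P : F[X] := X * ((C t - X * C g) * ((C η - C ζ * X * C t) *
    ((X * (C η - C ζ * X * C t) - C ε * (C t - X * C g)) * (X * (C η - C ζ * X * C t) + C ε * (C t - X * C g)))))
  have n1 : (C t - X * C g : F[X]) ≠ 0 := by
    intro h
    have := congrArg (eval 0) h
    simp at this
    exact ht this
  have n2 : (C η - C ζ * X * C t : F[X]) ≠ 0 := by
    intro h
    have := congrArg (fun p => coeff p 1) h
    simp [coeff_C] at this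
    rcases this with h | h
    · exact hζ h
    · exact ht h
  have n3 : ((X * (C η - C ζ * X * C t) - C ε * (C t - X * C g)) : F[X]) ≠ 0 := by
    intro h
    have h' : (C (-(ζ * t)) * X ^ 2 + C (η + ε * g) * X + C (-(ε * t)) : F[X]) = 0 := by
      rw [← h]
      simp only [C_neg, C_mul, C_add]
      ring
    have h3 := leadingCoeff_quadratic (a := -(ζ * t)) (b := η + ε * g) (c := -(ε * t))
      (neg_ne_zero.2 (mul_ne_zero hζ ht))
    rw [h', leadingCoeff_zero] at h3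
    exact mul_ne_zero hζ ht (neg_eq_zero.1 h3.symm)
  have n4 : ((X * (C η - C ζ * X * C t) + C ε * (C t - X * C g)) : F[X]) ≠ 0 := by
    intro h
    have h' : (C (-(ζ * t)) * X ^ 2 + C (η - ε * g) * X + C (ε * t) : F[X]) = 0 := by
      rw [← h]
      simp only [C_neg, C_mul, C_sub]
      ring
    have h3 := leadingCoeff_quadratic (a := -(ζ * t)) (b := η - ε * g) (c := ε * t)
      (neg_ne_zero.2 (mul_ne_zero hζ ht))
    rw [h', leadingCoeff_zero] at h3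
    exact mul_ne_zero hζ ht (neg_eq_zero.1 h3.symm)
  have hP : P ≠ 0 := mul_ne_zero X_ne_zero (mul_ne_zero n1 (mul_ne_zero n2 (mul_ne_zero n3 n4)))
  have hd : P.natDegree ≤ 7 := by
    have d1 : (C t - X * C g : F[X]).natDegree ≤ 1 := by compute_degree
    have d2 : (C η - C ζ * X * C t : F[X]).natDegree ≤ 1 := by compute_degree
    have d3 : ((X * (C η - C ζ * X * C t) - C ε * (C t - X * C g)) : F[X]).natDegree ≤ 2 := by compute_degree
    have d4 : ((X * (C η - C ζ * X * C t) + C ε * (C t - X * C g)) : F[X]).natDegree ≤ 2 := by compute_degree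
    refine natDegree_mul_le.trans ?_
    have h1 : (X : F[X]).natDegree ≤ 1 := natDegree_X_le
    have h2 := natDegree_mul_le (p := (C t - X * C g : F[X])) (q := ((C η - C ζ * X * C t) *
      ((X * (C η - C ζ * X * C t) - C ε * (C t - X * C g)) * (X * (C η - C ζ * X * C t) + C ε * (C t - X * C g)))))
    have h3 := natDegree_mul_le (p := (C η - C ζ * X * C t : F[X])) (q :=
      ((X * (C η - C ζ * X * C t) - C ε * (C t - X * C g)) * (X * (C η - C ζ * X * C t) + C ε * (C t - X * C g))))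
    have h4 := natDegree_mul_le (p := (X * (C η - C ζ * X * C t) - C ε * (C t - X * C g) : F[X]))
      (q := (X * (C η - C ζ * X * C t) + C ε * (C t - X * C g)))
    omega
  obtain ⟨l, hl⟩ := P.exists_eval_ne_zero_of_natDegree_lt_card hP (by
    rw [Cardinal.mk_fintype]
    exact_mod_cast (by omega : P.natDegree < Fintype.card F))
  simp only [P, eval_mul, eval_sub, eval_add, eval_X, eval_C] at hl
  refine ⟨l, ?_, ?_, ?_, ?_, ?_⟩
  · exact fun h => hl (by rw [h]; ring)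
  · exact fun h => hl (by rw [h]; ring)
  · exact fun h => hl (by rw [h]; ring)
  · exact fun h => hl (by rw [sub_eq_zero.2 h]; ring)
  · exact fun h => hl (by rw [show l * (η - ζ * l * t) + ε * (t - l * g) = 0 by rw [h]; ring]; ring)

/-- the one-parameter formula for a given `l` -/
theorem good_NN_of {e : F} (hε : ε ≠ 0) (hζ : ζ ≠ 0) (hl : l ≠ 0) (h1 : t - l * ((ζ * b - η * a) * ε⁻¹) ≠ 0)
    (h2 : η - ζ * l * t ≠ 0) (h3 : l * (η - ζ * l * t) ≠ ε * (t - l * ((ζ * b - η * a) * ε⁻¹)))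
    (h4 : l * (η - ζ * l * t) ≠ -(ε * (t - l * ((ζ * b - η * a) * ε⁻¹)))) : Good t e (NN ε ζ η a b c) := by
  obtain ⟨g, hg⟩ : ∃ g, g = (ζ * b - η * a) * ε⁻¹ := ⟨_, rfl⟩
  rw [← hg] at h1 h3 h4
  obtain ⟨m, hm⟩ : ∃ m, m = (η - ζ * l * t) / (t - l * g) := ⟨_, rfl⟩
  have hm0 : m ≠ 0 := by rw [hm]; exact div_ne_zero h2 h1
  have hm1 : m * (t - l * g) = η - ζ * l * t := by rw [hm]; field_simp
  have hk : l ^ 2 * m ^ 2 - ε ^ 2 ≠ 0 := by
    intro h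
    have h5 : (l * m - ε) * (l * m + ε) = 0 := by linear_combination h
    rcases mul_eq_zero.1 h5 with h6 | h6
    · apply h3
      rw [← hm1]
      linear_combination (t - l * g) * h6
    · apply h4
      rw [← hm1]
      linear_combination (t - l * g) * h6
  obtain ⟨s, hs⟩ : ∃ s, s * (ζ * (l ^ 2 * m ^ 2 - ε ^ 2)) = ε * m ^ 2 * e + e * ζ * ε ^ 2 - l * m * ε * (η * g - ζ * c)
      + l * a * m ^ 3 := ⟨(ε * m ^ 2 * e + e * ζ * ε ^ 2 - l * m * ε * (η * g - ζ * c) + l * a * m ^ 3) /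
        (ζ * (l ^ 2 * m ^ 2 - ε ^ 2)), div_mul_cancel₀ _ (mul_ne_zero hζ hk)⟩
  obtain ⟨r, hr⟩ : ∃ r, r = -(e + s) / m := ⟨_, rfl⟩
  refine ⟨GA l m r (s * l) t, GB l m r (s * l) t ε ζ η a b c, sp_GA hl hm0, sp_GB hl hm0 hε hζ,
    Or.inl (GA_mul_GB hl hm0 hε hζ), charpoly_GA hl hm0 ?_, charpoly_GB hl hm0 hε hζ ?_ ?_⟩
  · rw [hr]; field_simp; ring
  · rw [← hg]
    field_simp
    linear_combination -hm1
  · rw [← hg, hr]
    field_simp
    linear_combination hs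

theorem good_NN [Fintype F] (hF : 8 ≤ Fintype.card F) {e : F} (ht : t ≠ 0) (hε : ε ≠ 0) (hζ : ζ ≠ 0) :
    Good t e (NN ε ζ η a b c) := by
  obtain ⟨l, hl, h1, h2, h3, h4⟩ := exists_l hF ht hζ ((ζ * b - η * a) * ε⁻¹) ε η
  exact good_NN_of hε hζ hl h1 h2 h3 h4

/-- the negative of a normal form -/
theorem neg_NN : -(NN ε ζ η a b c) = NN (-ε) (-ζ) (-η) (-a) (-b) (-c) := by
  ext i j
  fin_cases i <;> fin_cases j <;> simp [NN]

theorem eq_NN {M : Matrix (Fin 4) (Fin 4) F} (hM : Sp M) (hε : ε ≠ 0) (hζ : ζ ≠ 0) (h00 : M 0 0 = 0) (h10 : M 1 0 = 0)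
    (h20 : M 2 0 = ε) (h30 : M 3 0 = 0) (h01 : M 0 1 = 0) (h11 : M 1 1 = 0) (h21 : M 2 1 = η) (h31 : M 3 1 = ζ) :
    M = NN ε ζ η (M 3 3) (M 2 3) (M 2 2) := by
  have e02 := hM.cols 0 2
  have e03 := hM.cols 0 3
  have e12 := hM.cols 1 2
  have e13 := hM.cols 1 3
  have e23 := hM.cols 2 3
  simp only [Deg.w, h00, h10, h20, h30, h01, h11, h21, h31, J4] at e02 e03 e12 e13 e23
  simp at e02 e03 e12 e13 e23
  have m03 : M 0 3 = 0 := by
    rcases e03 with h | h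
    · exact absurd h hε
    · exact h
  rw [m03] at e13 e23
  have m02 : M 0 2 = -ε⁻¹ := by
    field_simp
    linear_combination -e02
  have m12 : M 1 2 = η * ζ⁻¹ * ε⁻¹ := by
    rw [m02] at e12
    field_simp at e12 ⊢
    linear_combination -e12
  have m13 : M 1 3 = -ζ⁻¹ := by
    field_simp
    linear_combination -e13
  have m32 : M 3 2 = (ζ * M 2 3 - η * M 3 3) * ε⁻¹ := by
    rw [m02, m12, m13] at e23
    field_simp at e23 ⊢
    linear_combination e23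
  ext i j
  fin_cases i <;> fin_cases j <;> simp [NN, h00, h10, h20, h30, h01, h11, h21, h31, m03, m02, m12, m13, m32]

/-- **the framed elements** -/
theorem good_frame_of {e : F} (hNN : ∀ ε ζ η a b c : F, ε ≠ 0 → ζ ≠ 0 → Good t e (NN ε ζ η a b c))
    {G : Matrix (Fin 4) (Fin 4) F} (hG : Sp G) {x y : Fin 4 → F} (a1 : Deg.w x y = 0) (a2 : Deg.w y (G *ᵥ x) = 0) (a3 : Deg.w x (G *ᵥ x) ≠ 0)
    (a4 : Deg.w y (G *ᵥ y) ≠ 0) : Good t e G := by
  obtain ⟨ε, hε⟩ : ∃ ε, ε = Deg.w x (G *ᵥ x) := ⟨_, rfl⟩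
  obtain ⟨ζ, hζ⟩ : ∃ ζ, ζ = Deg.w y (G *ᵥ y) := ⟨_, rfl⟩
  obtain ⟨η, hη⟩ : ∃ η, η = Deg.w x (G *ᵥ y) := ⟨_, rfl⟩
  rw [← hε] at a3
  rw [← hζ] at a4
  obtain ⟨u, hu⟩ : ∃ u, u = ε⁻¹ • (G *ᵥ x) := ⟨_, rfl⟩
  obtain ⟨v, hv⟩ : ∃ v, v = ζ⁻¹ • (G *ᵥ y - η • u) := ⟨_, rfl⟩
  have b1 : Deg.w x u = 1 := by rw [hu, w_smul_right, ← hε, inv_mul_cancel₀ a3]
  have b2 : Deg.w y u = 0 := by rw [hu, w_smul_right, a2, mul_zero]
  have b3 : Deg.w x v = 0 := by rw [hv, w_smul_right, w_sub_right, w_smul_right, b1, ← hη]; ring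
  have b4 : Deg.w y v = 1 := by
    rw [hv, w_smul_right, w_sub_right, w_smul_right, b2, ← hζ, mul_zero, sub_zero, inv_mul_cancel₀ a4]
  have b5 : Deg.w u v = 0 := by
    have h1 : Deg.w u (G *ᵥ y) = 0 := by
      rw [w_swap, hu, w_smul_right, w_swap, hG.w, a1]
      ring
    have h2 : Deg.w u u = 0 := by simp [Deg.w]; ring
    rw [hv, w_smul_right, w_sub_right, w_smul_right, h1, h2]
    ring
  have hC : Sp (Matrix.of fun i j => (![x, y, u, v] : Fin 4 → Fin 4 → F) j i) :=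
    sp_of_cols ![x, y, u, v] a1 b1 b3 b2 b4 b5
  obtain ⟨C, hCe⟩ : ∃ C, C = (Matrix.of fun i j => (![x, y, u, v] : Fin 4 → Fin 4 → F) j i) := ⟨_, rfl⟩
  rw [← hCe] at hC
  obtain ⟨D, hD, hDC, hCD⟩ := hC.exists_inv
  have c0 : (fun l => C l 0) = x := by rw [hCe]; rfl
  have c1 : (fun l => C l 1) = y := by rw [hCe]; rfl
  have c2 : (fun l => C l 2) = u := by rw [hCe]; rfl
  have c3 : (fun l => C l 3) = v := by rw [hCe]; rfl
  have hM : Sp (D * G * C) := (hD.mul hG).mul hC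
  have key : ∀ i j, (D * G * C) i j = (D *ᵥ (G *ᵥ fun l => C l j)) i := by
    intro i j
    rw [mul_col, Matrix.mulVec_mulVec]
  have k2 : ∀ j, D *ᵥ (fun l => C l j) = fun i => (1 : Matrix (Fin 4) (Fin 4) F) i j := by
    intro j
    ext i
    rw [← mul_col, hDC]
  have g0 : G *ᵥ x = ε • u := by rw [hu, smul_smul, mul_inv_cancel₀ a3, one_smul]
  have g1 : G *ᵥ y = ζ • v + η • u := by
    rw [hv, smul_smul, mul_inv_cancel₀ a4, one_smul, sub_add_cancel]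
  have col0 : ∀ i, (D * G * C) i 0 = ε * (1 : Matrix (Fin 4) (Fin 4) F) i 2 := by
    intro i
    rw [key, c0, g0, Matrix.mulVec_smul, ← c2, k2]
    rfl
  have col1 : ∀ i, (D * G * C) i 1 = ζ * (1 : Matrix (Fin 4) (Fin 4) F) i 3 + η * (1 : Matrix (Fin 4) (Fin 4) F) i 2 := by
    intro i
    rw [key, c1, g1, Matrix.mulVec_add, Matrix.mulVec_smul, Matrix.mulVec_smul, ← c2, ← c3, k2, k2]
    rfl
  have hN := eq_NN (η := η) hM a3 a4 (by rw [col0]; simp) (by rw [col0]; simp) (by rw [col0]; simp)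
    (by rw [col0]; simp) (by rw [col1]; simp) (by rw [col1]; simp) (by rw [col1]; simp) (by rw [col1]; simp)
  have h6 : Good t e (D * G * C) := by
    rw [hN]
    exact hNN _ _ _ _ _ _ a3 a4
  have h7 := h6.conj hC hD hCD
  have h8 : C * (D * G * C) * D = G := by
    calc C * (D * G * C) * D = (C * D) * G * (C * D) := by simp only [Matrix.mul_assoc]
      _ = G := by rw [hCD, Matrix.one_mul, Matrix.mul_one]
  rwa [h8] at h7

theorem good_frame [Fintype F] (hF : 8 ≤ Fintype.card F) {e : F} (ht : t ≠ 0) {G : Matrix (Fin 4) (Fin 4) F} (hG : Sp G)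
    {x y : Fin 4 → F} (a1 : Deg.w x y = 0) (a2 : Deg.w y (G *ᵥ x) = 0) (a3 : Deg.w x (G *ᵥ x) ≠ 0)
    (a4 : Deg.w y (G *ᵥ y) ≠ 0) : Good t e G :=
  good_frame_of (fun _ _ _ _ _ _ h1 h2 => good_NN hF ht h1 h2) hG a1 a2 a3 a4

end Cfsg.Agent.H812.TC.Gen
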