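import Cfsg.Agent.H812.TC.OddRow
import Cfsg.Agent.H812.TC.Gen

/-!
# S2464, row `PSp_4(q)`, `q ≥ 9` odd (helper812)
-/

set_option autoImplicit false

namespace Cfsg.Agent.H812.TC.OddRow

open Matrix Polynomial Deg

variable {F : Type} [Field F] [Fintype F]

theorem row3_odd_gen (hodd : Fintype.card F % 2 = 1) (hF : 8 ≤ Fintype.card F) : H210.TC.Row3 (Cfsg.PSp 2 F) := by
  have h2 : (2 : F) ≠ 0 := by
    intro h
    have h7 : ringChar F = 2 := by
      have h8 : ringChar F ∣ 2 := ringChar.dvd (by exact_mod_cast h)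
      exact ((Nat.dvd_prime Nat.prime_two).1 h8).resolve_left (CharP.ringChar_ne_one)
    have h9 := FiniteField.even_card_iff_char_two.1 h7
    omega
  obtain ⟨r, hr, h5, h4, x, hx⟩ := SpF.exists_elt (F := F) (by omega)
  obtain ⟨t, e, hte⟩ := H374.SpChar.charpoly_four x.2
  have hxp : x.1.charpoly = pol t e := hte
  have ht := ne_zero_of hr h5 h2 h4 hx hxp
  exact row3_odd hodd (by omega) hr h5 h4 hx hxp fun G hG e1 e2 a1 a2 a3 a4 => Gen.good_frame hF ht hG a1 a2 a3 a4

end Cfsg.Agent.H812.TC.OddRow
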