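import Mathlib.LinearAlgebra.Matrix.Charpoly.Basic
import Mathlib.LinearAlgebra.SymplecticGroup
import Mathlib.FieldTheory.Finite.Basic
import Mathlib.Tactic

/-!
# S2464, row `PSp_4(q)`, `q` odd: the degenerate elements (helper812)

Scalar multiples of transvections and the noncentral involutions of `Sp_4(q)` are, up to sign, products of two
symplectic matrices with characteristic polynomial `X⁴ - tX³ + eX² - tX + 1`, `t ≠ 0`, `e ≠ 2`.
-/

set_option autoImplicit false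

namespace Cfsg.Agent.H812.TC.Deg

open Matrix Polynomial

variable {F : Type*} [Field F]

/-- the matrix of `w4` -/
def J4 : Matrix (Fin 4) (Fin 4) F := !![0, 0, 1, 0; 0, 0, 0, 1; -1, 0, 0, 0; 0, -1, 0, 0]

def Sp (M : Matrix (Fin 4) (Fin 4) F) : Prop := Mᵀ * J4 * M = J4

noncomputable def pol (t e : F) : F[X] := X ^ 4 - C t * X ^ 3 + C e * X ^ 2 - C t * X + 1

def Good (t e : F) (G : Matrix (Fin 4) (Fin 4) F) : Prop :=
  ∃ A B : Matrix (Fin 4) (Fin 4) F, Sp A ∧ Sp B ∧ (A * B = G ∨ A * B = -G) ∧ A.charpoly = pol t e ∧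
    B.charpoly = pol t e

theorem charpoly_fin4 (M : Matrix (Fin 4) (Fin 4) F) (t e : F) (h1 : M 0 0 + M 1 1 + M 2 2 + M 3 3 = t)
    (h2 : M 0 0 * M 1 1 - M 0 1 * M 1 0 + (M 0 0 * M 2 2 - M 0 2 * M 2 0) + (M 0 0 * M 3 3 - M 0 3 * M 3 0)
      + (M 1 1 * M 2 2 - M 1 2 * M 2 1) + (M 1 1 * M 3 3 - M 1 3 * M 3 1) + (M 2 2 * M 3 3 - M 2 3 * M 3 2) = e)
    (h3 : M 0 0 * (M 1 1 * M 2 2 - M 1 2 * M 2 1) - M 0 1 * (M 1 0 * M 2 2 - M 1 2 * M 2 0)
        + M 0 2 * (M 1 0 * M 2 1 - M 1 1 * M 2 0)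
      + (M 0 0 * (M 1 1 * M 3 3 - M 1 3 * M 3 1) - M 0 1 * (M 1 0 * M 3 3 - M 1 3 * M 3 0)
        + M 0 3 * (M 1 0 * M 3 1 - M 1 1 * M 3 0))
      + (M 0 0 * (M 2 2 * M 3 3 - M 2 3 * M 3 2) - M 0 2 * (M 2 0 * M 3 3 - M 2 3 * M 3 0)
        + M 0 3 * (M 2 0 * M 3 2 - M 2 2 * M 3 0))
      + (M 1 1 * (M 2 2 * M 3 3 - M 2 3 * M 3 2) - M 1 2 * (M 2 1 * M 3 3 - M 2 3 * M 3 1)
        + M 1 3 * (M 2 1 * M 3 2 - M 2 2 * M 3 1)) = t) (h4 : M.det = 1) :
    M.charpoly = pol t e := by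
  unfold pol
  subst h2
  rw [← C_1, ← h4]
  conv_rhs => rw [show C t * X = C t * X from rfl]
  rw [← h1] at *
  have h3' := congrArg (C : F → F[X]) h3
  rw [Matrix.charpoly, Matrix.det_succ_row_zero, Matrix.det_succ_row_zero]
  simp only [Fin.sum_univ_succ, Matrix.det_fin_three, Matrix.charmatrix_apply, Matrix.submatrix_apply,
    Matrix.diagonal_apply] at *
  simp [Fin.succAbove] at *
  linear_combination (-X) * h3'

theorem Sp.one : Sp (1 : Matrix (Fin 4) (Fin 4) F) := by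
  unfold Sp; simp

theorem Sp.mul {A B : Matrix (Fin 4) (Fin 4) F} (hA : Sp A) (hB : Sp B) : Sp (A * B) := by
  unfold Sp at *
  calc (A * B)ᵀ * J4 * (A * B) = Bᵀ * (Aᵀ * J4 * A) * B := by
        rw [Matrix.transpose_mul]; simp only [Matrix.mul_assoc]
    _ = J4 := by rw [hA, hB]

theorem J4_mul : (J4 : Matrix (Fin 4) (Fin 4) F) * J4 = -1 := by
  ext i j
  fin_cases i <;> fin_cases j <;> simp [J4, Matrix.mul_apply, Fin.sum_univ_succ]

theorem sp_inv {C D : Matrix (Fin 4) (Fin 4) F} (hC : Sp C) (h : C * D = 1) : Sp D := by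
  unfold Sp at *
  have h3 : Dᵀ * Cᵀ = 1 := by rw [← Matrix.transpose_mul, h, Matrix.transpose_one]
  have h4 : Dᵀ * (Cᵀ * J4 * C) * D = (Dᵀ * Cᵀ) * J4 * (C * D) := by simp only [Matrix.mul_assoc]
  rw [hC, h3, h, Matrix.one_mul, Matrix.mul_one] at h4
  exact h4

/-- the inverse of a symplectic matrix -/
theorem Sp.exists_inv {C : Matrix (Fin 4) (Fin 4) F} (hC : Sp C) : ∃ D, Sp D ∧ D * C = 1 ∧ C * D = 1 := by
  obtain ⟨E, hE⟩ : ∃ E, E = -((J4 : Matrix (Fin 4) (Fin 4) F) * Cᵀ * J4) := ⟨_, rfl⟩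
  have h1 : E * C = 1 := by
    have h0 : E * C = -(J4 * (Cᵀ * J4 * C)) := by
      rw [hE]; simp only [Matrix.neg_mul, Matrix.mul_assoc]
    have hC' : Cᵀ * J4 * C = J4 := hC
    rw [hC', J4_mul, neg_neg] at h0
    exact h0
  have h2 : C * E = 1 := mul_eq_one_comm.1 h1
  exact ⟨E, sp_inv hC h2, h1, h2⟩

theorem charpoly_conj {C D M : Matrix (Fin 4) (Fin 4) F} (h : C * D = 1) : (C * M * D).charpoly = M.charpoly := by
  have h' : D * C = 1 := mul_eq_one_comm.1 h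
  rw [Matrix.charpoly_mul_comm, ← Matrix.mul_assoc, h', Matrix.one_mul]

theorem Good.conj {t e : F} {G C D : Matrix (Fin 4) (Fin 4) F} (hC : Sp C) (hD : Sp D) (h : C * D = 1)
    (hG : Good t e G) : Good t e (C * G * D) := by
  obtain ⟨A, B, hA, hB, hAB, h1, h2⟩ := hG
  have h' : D * C = 1 := mul_eq_one_comm.1 h
  have key : C * A * D * (C * B * D) = C * (A * B) * D := by
    calc C * A * D * (C * B * D) = C * A * (D * C) * (B * D) := by simp only [Matrix.mul_assoc]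
      _ = _ := by rw [h', Matrix.mul_one]; simp only [Matrix.mul_assoc]
  refine ⟨C * A * D, C * B * D, (hC.mul hA).mul hD, (hC.mul hB).mul hD, ?_, ?_, ?_⟩
  · rw [key]
    rcases hAB with h3 | h3
    · left; rw [h3]
    · right; rw [h3, Matrix.mul_neg, Matrix.neg_mul]
  · rw [charpoly_conj h, h1]
  · rw [charpoly_conj h, h2]

theorem Good.neg {t e : F} {G : Matrix (Fin 4) (Fin 4) F} (hG : Good t e G) : Good t e (-G) := by
  obtain ⟨A, B, hA, hB, hAB, h1, h2⟩ := hG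
  refine ⟨A, B, hA, hB, ?_, h1, h2⟩
  rcases hAB with h3 | h3
  · right; rw [h3, neg_neg]
  · left; rw [h3]

/-- a matrix with given symplectic columns -/
theorem sp_of_cols (c : Fin 4 → Fin 4 → F)
    (h01 : c 0 0 * c 1 2 + c 0 1 * c 1 3 - c 0 2 * c 1 0 - c 0 3 * c 1 1 = 0)
    (h02 : c 0 0 * c 2 2 + c 0 1 * c 2 3 - c 0 2 * c 2 0 - c 0 3 * c 2 1 = 1)
    (h03 : c 0 0 * c 3 2 + c 0 1 * c 3 3 - c 0 2 * c 3 0 - c 0 3 * c 3 1 = 0)
    (h12 : c 1 0 * c 2 2 + c 1 1 * c 2 3 - c 1 2 * c 2 0 - c 1 3 * c 2 1 = 0)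
    (h13 : c 1 0 * c 3 2 + c 1 1 * c 3 3 - c 1 2 * c 3 0 - c 1 3 * c 3 1 = 1)
    (h23 : c 2 0 * c 3 2 + c 2 1 * c 3 3 - c 2 2 * c 3 0 - c 2 3 * c 3 1 = 0) :
    Sp (Matrix.of fun i j => c j i) := by
  unfold Sp
  ext i j
  fin_cases i <;> fin_cases j <;>
    simp [J4, Matrix.mul_apply, Fin.sum_univ_succ]
  · ring
  · linear_combination h01
  · linear_combination h02
  · linear_combination h03
  · linear_combination -h01
  · ring
  · linear_combination h12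
  · linear_combination h13
  · linear_combination -h02
  · linear_combination -h12
  · ring
  · linear_combination h23
  · linear_combination -h03
  · linear_combination -h13
  · linear_combination -h23
  · ring


/-- a symplectic basis beginning with a given vector -/
theorem exists_sp_first (t : Fin 4 → F) (ht : t ≠ 0) :
    ∃ C : Matrix (Fin 4) (Fin 4) F, Sp C ∧ C 0 0 = t 0 ∧ C 1 0 = t 1 ∧ C 2 0 = t 2 ∧ C 3 0 = t 3 := by
  by_cases h0 : t 0 = 0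
  · by_cases h1 : t 1 = 0
    · by_cases h2 : t 2 = 0
      · have h3 : t 3 ≠ 0 := by
          intro h3
          apply ht
          ext i
          fin_cases i <;> simp [h0, h1, h2, h3]
        refine ⟨_, sp_of_cols ![t, ![1, 0, 0, 0], ![0, -(t 3)⁻¹, 0, 0], ![0, 0, 1, 0]] ?_ ?_ ?_ ?_ ?_ ?_, ?_, ?_, ?_, ?_⟩ <;>
          simp [h0, h1, h2, h3]
      · refine ⟨_, sp_of_cols ![t, ![- t 3 / t 2, 1, 0, 0], ![-(t 2)⁻¹, 0, 0, 0], ![0, 0, 0, 1]] ?_ ?_ ?_ ?_ ?_ ?_, ?_, ?_, ?_, ?_⟩ <;>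
          simp [h0, h1, h2] <;> field_simp <;> ring
    · refine ⟨_, sp_of_cols ![t, ![1, 0, 0, t 2 / t 1], ![0, 0, 0, (t 1)⁻¹], ![0, 0, 1, -(t 0) / t 1]] ?_ ?_ ?_ ?_ ?_ ?_, ?_, ?_, ?_, ?_⟩ <;>
        simp [h0, h1] <;> field_simp <;> ring
  · refine ⟨_, sp_of_cols ![t, ![0, 1, t 3 / t 0, 0], ![0, 0, (t 0)⁻¹, 0], ![0, 0, -(t 1) / t 0, 1]] ?_ ?_ ?_ ?_ ?_ ?_, ?_, ?_, ?_, ?_⟩ <;>
      simp [h0] <;> field_simp <;> ring

theorem sp_mk (A : Matrix (Fin 4) (Fin 4) F)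
    (h01 : A 0 0 * A 2 1 + A 1 0 * A 3 1 - A 2 0 * A 0 1 - A 3 0 * A 1 1 = 0)
    (h02 : A 0 0 * A 2 2 + A 1 0 * A 3 2 - A 2 0 * A 0 2 - A 3 0 * A 1 2 = 1)
    (h03 : A 0 0 * A 2 3 + A 1 0 * A 3 3 - A 2 0 * A 0 3 - A 3 0 * A 1 3 = 0)
    (h12 : A 0 1 * A 2 2 + A 1 1 * A 3 2 - A 2 1 * A 0 2 - A 3 1 * A 1 2 = 0)
    (h13 : A 0 1 * A 2 3 + A 1 1 * A 3 3 - A 2 1 * A 0 3 - A 3 1 * A 1 3 = 1)
    (h23 : A 0 2 * A 2 3 + A 1 2 * A 3 3 - A 2 2 * A 0 3 - A 3 2 * A 1 3 = 0) : Sp A :=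
  sp_of_cols (fun j i => A i j) h01 h02 h03 h12 h13 h23

/-- the transvection `1 + k E₀₂` -/
def T (k : F) : Matrix (Fin 4) (Fin 4) F := !![1, 0, k, 0; 0, 1, 0, 0; 0, 0, 1, 0; 0, 0, 0, 1]

def TA (t a d : F) : Matrix (Fin 4) (Fin 4) F :=
  !![t, 0, a⁻¹, -a⁻¹; t, t, 0, (t ^ 2 + 1) * a⁻¹ * d⁻¹; -a, 0, 0, 0; -(a * d), -(a * d), 0, -t]

def TB (t a d : F) : Matrix (Fin 4) (Fin 4) F :=
  !![0, 0, a⁻¹, 0; 0, t, -a⁻¹, (t ^ 2 + 1) * a⁻¹ * d⁻¹; -a, -(a * d), t, -t; 0, -(a * d), 0, -t]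

theorem sp_TA {t a d : F} (ha : a ≠ 0) (hd : d ≠ 0) : Sp (TA t a d) := by
  refine sp_mk _ ?_ ?_ ?_ ?_ ?_ ?_ <;> simp [TA] <;> field_simp <;> ring

theorem sp_TB {t a d : F} (ha : a ≠ 0) (hd : d ≠ 0) : Sp (TB t a d) := by
  refine sp_mk _ ?_ ?_ ?_ ?_ ?_ ?_ <;> simp [TB] <;> field_simp <;> ring

theorem charpoly_TA {t a d : F} (ha : a ≠ 0) (hd : d ≠ 0) : (TA t a d).charpoly = pol t (2 - d) := by
  refine charpoly_fin4 _ _ _ ?_ ?_ ?_ ?_
  · simp [TA]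
  · simp [TA]; field_simp; ring
  · simp [TA]; field_simp; ring
  · rw [Matrix.det_succ_row_zero]
    simp [Fin.sum_univ_succ, Matrix.det_fin_three, TA, Fin.succAbove]; field_simp; ring

theorem charpoly_TB {t a d : F} (ha : a ≠ 0) (hd : d ≠ 0) : (TB t a d).charpoly = pol t (2 - d) := by
  refine charpoly_fin4 _ _ _ ?_ ?_ ?_ ?_
  · simp [TB]
  · simp [TB]; field_simp; ring
  · simp [TB]; field_simp; ring
  · rw [Matrix.det_succ_row_zero]
    simp [Fin.sum_univ_succ, Matrix.det_fin_three, TB, Fin.succAbove]; field_simp; ring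

theorem TA_mul_TB {t a d : F} (ha : a ≠ 0) (hd : d ≠ 0) : TA t a d * TB t a d = -T (-2 * t * a⁻¹) := by
  ext i j
  fin_cases i <;> fin_cases j <;> simp [TA, TB, T, Matrix.mul_apply, Fin.sum_univ_succ] <;> field_simp <;> ring

theorem good_T {t e k : F} (h2 : (2 : F) ≠ 0) (ht : t ≠ 0) (he : e ≠ 2) (hk : k ≠ 0) : Good t e (T k) := by
  have ha : -2 * t / k ≠ 0 := div_ne_zero (mul_ne_zero (neg_ne_zero.2 h2) ht) hk
  have hd : 2 - e ≠ 0 := fun h => he (sub_eq_zero.1 h).symm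
  refine ⟨TA t (-2 * t / k) (2 - e), TB t (-2 * t / k) (2 - e), sp_TA ha hd, sp_TB ha hd, Or.inr ?_, ?_, ?_⟩
  · rw [TA_mul_TB ha hd]
    congr 2
    field_simp
  · rw [charpoly_TA ha hd]; congr 1; ring
  · rw [charpoly_TB ha hd]; congr 1; ring

/-- the form -/
def w (x y : Fin 4 → F) : F := x 0 * y 2 + x 1 * y 3 - x 2 * y 0 - x 3 * y 1

theorem w_eq (x y : Fin 4 → F) : w x y = x ⬝ᵥ (J4 *ᵥ y) := by
  simp [w, J4, Matrix.mulVec, dotProduct, Fin.sum_univ_succ]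
  ring

theorem Sp.w {G : Matrix (Fin 4) (Fin 4) F} (hG : Sp G) (x y : Fin 4 → F) : w (G *ᵥ x) (G *ᵥ y) = Deg.w x y := by
  have h : Gᵀ * J4 * G = J4 := hG
  rw [w_eq, w_eq]
  conv_rhs => rw [← h]
  rw [← Matrix.mulVec_mulVec, ← Matrix.mulVec_mulVec, Matrix.dotProduct_mulVec x Gᵀ, Matrix.vecMul_transpose]

theorem Sp.cols {C : Matrix (Fin 4) (Fin 4) F} (hC : Sp C) (i j : Fin 4) :
    Deg.w (fun l => C l i) (fun l => C l j) = J4 i j := by
  have h : Cᵀ * J4 * C = J4 := hC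
  have h1 := congrFun (congrFun h i) j
  rw [← h1]
  simp [Deg.w, J4, Matrix.mul_apply, Fin.sum_univ_succ]
  ring

theorem exists_w_eq_one {x : Fin 4 → F} (hx : x ≠ 0) : ∃ y, Deg.w x y = 1 := by
  obtain ⟨C, hC, h0, h1, h2, h3⟩ := exists_sp_first x hx
  refine ⟨fun l => C l 2, ?_⟩
  have h := hC.cols 0 2
  have hx : (fun l => C l 0) = x := by
    ext l; fin_cases l
    · exact h0
    · exact h1
    · exact h2
    · exact h3
  rw [hx] at h
  rw [h]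
  simp [J4]

theorem mul_col (G C : Matrix (Fin 4) (Fin 4) F) (i j : Fin 4) : (G * C) i j = (G *ᵥ fun l => C l j) i := rfl

/-- transvections -/
theorem good_transv {t e k : F} (h2 : (2 : F) ≠ 0) (ht : t ≠ 0) (he : e ≠ 2) (hk : k ≠ 0) {v : Fin 4 → F} (hv : v ≠ 0)
    {G : Matrix (Fin 4) (Fin 4) F} (hG : ∀ x, G *ᵥ x = x + (k * Deg.w v x) • v) : Good t e G := by
  obtain ⟨C, hC, h0, h1, h2', h3⟩ := exists_sp_first v hv
  have hx : (fun l => C l 0) = v := by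
    ext l; fin_cases l
    · exact h0
    · exact h1
    · exact h2'
    · exact h3
  obtain ⟨D, hD, hDC, hCD⟩ := hC.exists_inv
  have key : G * C = C * T k := by
    ext i j
    rw [mul_col, hG, ← hx]
    simp only [Pi.add_apply, Pi.smul_apply, smul_eq_mul]
    rw [hC.cols]
    fin_cases j <;> simp [J4, T, Matrix.mul_apply, Fin.sum_univ_succ]
    ring
  have key2 : G = C * T k * D := by
    rw [← key, Matrix.mul_assoc, hCD, Matrix.mul_one]
  rw [key2]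
  exact (good_T h2 ht he hk).conj hC hD hCD

/-- the standard noncentral involution -/
def Z : Matrix (Fin 4) (Fin 4) F := !![-1, 0, 0, 0; 0, 1, 0, 0; 0, 0, -1, 0; 0, 0, 0, 1]

def XA (t g a c : F) : Matrix (Fin 4) (Fin 4) F :=
  !![a, 0, g * t + c * g ^ 2, -g; 1, t + c * g, 0, -a; c, 1, -a, 0; 0, -a, g, -(c * g)]

def XB (t g a c : F) : Matrix (Fin 4) (Fin 4) F :=
  !![a, g, g * t + c * g ^ 2, 0; 0, -(c * g), -g, a; c, 0, -a, 1; 1, a, 0, t + c * g]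

theorem sp_XA {t g a c : F} (h : -a ^ 2 - c * (g * t + c * g ^ 2) + g = 1) : Sp (XA t g a c) := by
  refine sp_mk _ ?_ ?_ ?_ ?_ ?_ ?_ <;> simp [XA]
  all_goals first
    | ring1
    | linear_combination h

theorem sp_XB {t g a c : F} (h : -a ^ 2 - c * (g * t + c * g ^ 2) + g = 1) : Sp (XB t g a c) := by
  refine sp_mk _ ?_ ?_ ?_ ?_ ?_ ?_ <;> simp [XB]
  all_goals first
    | ring1
    | linear_combination h

theorem charpoly_XA {t g a c : F} (h : -a ^ 2 - c * (g * t + c * g ^ 2) + g = 1) :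
    (XA t g a c).charpoly = pol t (2 - 2 * g) := by
  refine charpoly_fin4 _ _ _ ?_ ?_ ?_ ?_
  · simp [XA]
  · simp [XA]; linear_combination 2 * h
  · simp [XA]; linear_combination t * h
  · rw [Matrix.det_succ_row_zero]
    simp [Fin.sum_univ_succ, Matrix.det_fin_three, XA, Fin.succAbove]
    linear_combination (-a ^ 2 - c * (g * t + c * g ^ 2) + g + 1) * h

theorem charpoly_XB {t g a c : F} (h : -a ^ 2 - c * (g * t + c * g ^ 2) + g = 1) :
    (XB t g a c).charpoly = pol t (2 - 2 * g) := by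
  refine charpoly_fin4 _ _ _ ?_ ?_ ?_ ?_
  · simp [XB]
  · simp [XB]; linear_combination 2 * h
  · simp [XB]; linear_combination t * h
  · rw [Matrix.det_succ_row_zero]
    simp [Fin.sum_univ_succ, Matrix.det_fin_three, XB, Fin.succAbove]
    linear_combination (-a ^ 2 - c * (g * t + c * g ^ 2) + g + 1) * h

theorem XA_mul_XB {t g a c : F} (h : -a ^ 2 - c * (g * t + c * g ^ 2) + g = 1) : XA t g a c * XB t g a c = Z := by
  ext i j
  fin_cases i <;> fin_cases j <;> simp [XA, XB, Z, Matrix.mul_apply, Fin.sum_univ_succ]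
  all_goals first
    | ring1
    | linear_combination h
    | linear_combination -h


theorem good_Z [Fintype F] (hF : Fintype.card F % 2 = 1) (h2 : (2 : F) ≠ 0) {t e : F} (he : e ≠ 2) :
    Good t e (Z : Matrix (Fin 4) (Fin 4) F) := by
  obtain ⟨g, hg⟩ : ∃ g : F, g = 1 - e / 2 := ⟨_, rfl⟩
  have hg0 : g ≠ 0 := by
    rw [hg]
    intro h
    apply he
    field_simp at h
    linear_combination -h
  have heg : e = 2 - 2 * g := by rw [hg]; field_simp; ring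
  obtain ⟨a, c, hac⟩ := FiniteField.exists_root_sum_quadratic (R := F) (f := X ^ 2)
    (g := C (g ^ 2) * X ^ 2 + C (g * t) * X + C (1 - g)) (by simp) (degree_quadratic (pow_ne_zero 2 hg0)) hF
  simp only [eval_pow, eval_X, eval_add, eval_mul, eval_C] at hac
  have h : -a ^ 2 - c * (g * t + c * g ^ 2) + g = 1 := by linear_combination -hac
  refine ⟨XA t g a c, XB t g a c, sp_XA h, sp_XB h, Or.inl (XA_mul_XB h), ?_, ?_⟩
  · rw [charpoly_XA h, heg]
  · rw [charpoly_XB h, heg]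

theorem w_add_right (x y z : Fin 4 → F) : Deg.w x (y + z) = Deg.w x y + Deg.w x z := by
  simp [Deg.w]; ring
theorem w_sub_right (x y z : Fin 4 → F) : Deg.w x (y - z) = Deg.w x y - Deg.w x z := by
  simp [Deg.w]; ring
theorem w_smul_right (c : F) (x y : Fin 4 → F) : Deg.w x (c • y) = c * Deg.w x y := by
  simp [Deg.w]; ring
theorem w_neg_left (x y : Fin 4 → F) : Deg.w (-x) y = - Deg.w x y := by
  simp [Deg.w]; ring
theorem w_swap (x y : Fin 4 → F) : Deg.w x y = - Deg.w y x := by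
  simp [Deg.w]; ring

/-- noncentral involutions -/
theorem good_inv [Fintype F] (hF : Fintype.card F % 2 = 1) (h2 : (2 : F) ≠ 0) {t e : F} (he : e ≠ 2)
    {G : Matrix (Fin 4) (Fin 4) F} (hG : Sp G) (hGG : G * G = 1) (h1 : G ≠ 1) (hm : G ≠ -1) : Good t e G := by
  have hGx : ∀ x, G *ᵥ (G *ᵥ x) = x := fun x => by rw [Matrix.mulVec_mulVec, hGG, Matrix.one_mulVec]
  obtain ⟨x, hx⟩ : ∃ x, G *ᵥ x ≠ x := by
    by_contra hcon
    push Not at hcon
    apply h1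
    apply Matrix.mulVec_injective
    ext x
    rw [hcon, Matrix.one_mulVec]
  obtain ⟨y, hy⟩ : ∃ y, G *ᵥ y ≠ -y := by
    by_contra hcon
    push Not at hcon
    apply hm
    apply Matrix.mulVec_injective
    ext x
    rw [hcon, Matrix.neg_mulVec, Matrix.one_mulVec]
  obtain ⟨u, hu⟩ : ∃ u, u = G *ᵥ x - x := ⟨_, rfl⟩
  obtain ⟨v, hv⟩ : ∃ v, v = G *ᵥ y + y := ⟨_, rfl⟩
  have hu0 : u ≠ 0 := by rw [hu]; exact sub_ne_zero.2 hx
  have hv0 : v ≠ 0 := by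
    rw [hv]
    intro h
    exact hy (eq_neg_of_add_eq_zero_left h)
  have hGu : G *ᵥ u = -u := by rw [hu, Matrix.mulVec_sub, hGx]; abel
  have hGv : G *ᵥ v = v := by rw [hv, Matrix.mulVec_add, hGx]; abel
  obtain ⟨u', hu'⟩ := exists_w_eq_one hu0
  obtain ⟨v', hv'⟩ := exists_w_eq_one hv0
  obtain ⟨f, hf⟩ : ∃ f, f = (2 : F)⁻¹ • (u' - G *ᵥ u') := ⟨_, rfl⟩
  obtain ⟨k, hk⟩ : ∃ k, k = (2 : F)⁻¹ • (v' + G *ᵥ v') := ⟨_, rfl⟩
  have hGf : G *ᵥ f = -f := by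
    rw [hf, Matrix.mulVec_smul, Matrix.mulVec_sub, hGx, ← smul_neg]
    congr 1
    abel
  have hGk : G *ᵥ k = k := by
    rw [hk, Matrix.mulVec_smul, Matrix.mulVec_add, hGx]
    congr 1
    abel
  have e1 : Deg.w u (G *ᵥ u') = -1 := by
    rw [← hG.w, hGu, hGx, w_neg_left, hu']
  have e2 : Deg.w v (G *ᵥ v') = 1 := by
    rw [← hG.w, hGv, hGx, hv']
  have huf : Deg.w u f = 1 := by
    rw [hf, w_smul_right, w_sub_right, hu', e1]
    field_simp
    norm_num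
  have hvk : Deg.w v k = 1 := by
    rw [hk, w_smul_right, w_add_right, hv', e2]
    field_simp
    norm_num
  have orth : ∀ a b, G *ᵥ a = -a → G *ᵥ b = b → Deg.w a b = 0 := by
    intro a b ha hb
    have h := hG.w a b
    rw [ha, hb, w_neg_left] at h
    have h' : (2 : F) * Deg.w a b = 0 := by linear_combination -h
    exact (mul_eq_zero.1 h').resolve_left h2
  have hC : Sp (Matrix.of fun i j => (![u, v, f, k] : Fin 4 → Fin 4 → F) j i) := by
    refine sp_of_cols ![u, v, f, k] ?_ ?_ ?_ ?_ ?_ ?_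
    · exact orth u v hGu hGv
    · exact huf
    · exact orth u k hGu hGk
    · show Deg.w v f = 0
      rw [w_swap, orth f v hGf hGv, neg_zero]
    · exact hvk
    · exact orth f k hGf hGk
  obtain ⟨C, hCe⟩ : ∃ C, C = (Matrix.of fun i j => (![u, v, f, k] : Fin 4 → Fin 4 → F) j i) := ⟨_, rfl⟩
  rw [← hCe] at hC
  obtain ⟨D, hD, hDC, hCD⟩ := hC.exists_inv
  have c0 : (fun l => C l 0) = u := by rw [hCe]; rfl
  have c1 : (fun l => C l 1) = v := by rw [hCe]; rfl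
  have c2 : (fun l => C l 2) = f := by rw [hCe]; rfl
  have c3 : (fun l => C l 3) = k := by rw [hCe]; rfl
  have key : G * C = C * Z := by
    ext i j
    rw [mul_col]
    fin_cases j
    · show (G *ᵥ fun l => C l 0) i = _
      rw [c0, hGu, ← c0]
      simp [Z, Matrix.mul_apply, Fin.sum_univ_succ]
    · show (G *ᵥ fun l => C l 1) i = _
      rw [c1, hGv, ← c1]
      simp [Z, Matrix.mul_apply, Fin.sum_univ_succ]
    · show (G *ᵥ fun l => C l 2) i = _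
      rw [c2, hGf, ← c2]
      simp [Z, Matrix.mul_apply, Fin.sum_univ_succ]
    · show (G *ᵥ fun l => C l 3) i = _
      rw [c3, hGk, ← c3]
      simp [Z, Matrix.mul_apply, Fin.sum_univ_succ]
  have key2 : G = C * Z * D := by
    rw [← key, Matrix.mul_assoc, hCD, Matrix.mul_one]
  rw [key2]
  exact (good_Z hF h2 he).conj hC hD hCD

end Cfsg.Agent.H812.TC.Deg
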