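import Cfsg.Agent.H812.TC.SpFour
import Cfsg.Agent.H812.TC.Deg
import Cfsg.Agent.H7.TC.SpFour
import Cfsg.Agent.H374.SpChar

/-!
# S2464, row `PSp_4(q)`, `q` odd: the row from the product theorem for framed elements (helper812)
-/

set_option autoImplicit false

namespace Cfsg.Agent.H812.TC.OddRow

open Matrix Polynomial Deg

variable {F : Type} [Field F]

/-- the reindexing `Fin 2 ⊕ Fin 2 ≃ Fin 4` -/
noncomputable def toF : Matrix (Fin 2 ⊕ Fin 2) (Fin 2 ⊕ Fin 2) F ≃ₐ[F] Matrix (Fin 4) (Fin 4) F :=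
  Matrix.reindexAlgEquiv F F finSumFinEquiv

theorem toF_transpose (A : Matrix (Fin 2 ⊕ Fin 2) (Fin 2 ⊕ Fin 2) F) : toF Aᵀ = (toF A)ᵀ := rfl

theorem toF_J : toF (Matrix.J (Fin 2) F) = -J4 := by
  ext i j
  fin_cases i <;> fin_cases j <;>
    simp [toF, Matrix.J, J4, Matrix.coe_reindexAlgEquiv, finSumFinEquiv, Fin.addCases]

theorem charpoly_toF (A : Matrix (Fin 2 ⊕ Fin 2) (Fin 2 ⊕ Fin 2) F) : (toF A).charpoly = A.charpoly :=
  Matrix.charpoly_reindex finSumFinEquiv A

theorem sp_toF {A : Matrix (Fin 2 ⊕ Fin 2) (Fin 2 ⊕ Fin 2) F} : Sp (toF A) ↔ A ∈ symplecticGroup (Fin 2) F := by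
  rw [SymplecticGroup.mem_iff']
  have h : (toF A)ᵀ * J4 * toF A = -toF (Aᵀ * Matrix.J (Fin 2) F * A) := by
    rw [map_mul, map_mul, toF_J, toF_transpose]
    simp
  have h' : (J4 : Matrix (Fin 4) (Fin 4) F) = -toF (Matrix.J (Fin 2) F) := by rw [toF_J, neg_neg]
  unfold Sp
  rw [h]
  conv_lhs => rw [h']
  constructor
  · intro h1
    exact toF.injective (neg_injective h1)
  · intro h1
    rw [h1]

theorem charpoly_neg (M : Matrix (Fin 2 ⊕ Fin 2) (Fin 2 ⊕ Fin 2) F) : (-M).charpoly = M.charpoly.comp (-X) := by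
  have h4 : (-M).charmatrix = (-1 : F[X]) • (M.charmatrix.map (Polynomial.compRingHom (-X))) := by
    ext i j : 1
    by_cases hij : i = j
    · subst hij
      simp [Matrix.charmatrix_apply_eq, sub_eq_add_neg, add_comm]
    · simp [Matrix.charmatrix_apply_ne _ _ _ hij]
  have hev : Even (Fintype.card (Fin 2 ⊕ Fin 2)) := ⟨2, by simp⟩
  rw [Matrix.charpoly, h4, Matrix.det_smul, hev.neg_one_pow, one_mul, Matrix.charpoly]
  have h5 := (Polynomial.compRingHom (-X : F[X])).map_det M.charmatrix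
  rw [RingHom.mapMatrix_apply] at h5
  rw [← h5]
  rfl

theorem ne_zero_of {r : ℕ} (hr : r.Prime) (h5 : 5 ≤ r) [Fintype F] (h2 : (2 : F) ≠ 0)
    (h4 : orderOf ((Fintype.card F : ℕ) : ZMod r) = 4) {x : symplecticGroup (Fin 2) F} (hx : orderOf x = r) {t e : F}
    (hxp : x.1.charpoly = pol t e) : t ≠ 0 := by
  rintro rfl
  have hxr : x ^ r = 1 := by rw [← hx]; exact pow_orderOf_eq_one x
  have hx1 : x ≠ 1 := by
    rintro rfl
    rw [orderOf_one] at hx
    omega
  let y : symplecticGroup (Fin 2) F := ⟨-x.1, SymplecticGroup.neg_mem x.2⟩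
  have hy : y.1.charpoly = x.1.charpoly := by
    have h1 : (-x.1).charpoly = x.1.charpoly.comp (-X) := by
      exact charpoly_neg x.1
    show (-x.1).charpoly = _
    rw [h1, hxp]
    unfold pol
    simp
    ring
  obtain ⟨c, hc⟩ := isConj_iff.1 (SpF.isConj_of hr h4 hxr hx1 hy)
  have hyr : y ^ r = 1 := by
    rw [← hc, conj_pow, hxr, mul_one, mul_inv_cancel]
  have h6 : (y ^ r).1 = -1 := by
    rw [SubmonoidClass.coe_pow]
    show (-x.1) ^ r = -1
    have h7 := congrArg Subtype.val hxr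
    rw [SubmonoidClass.coe_pow] at h7
    rw [(hr.odd_of_ne_two (by omega)).neg_pow, h7]
    rfl
  rw [hyr] at h6
  have h8 := congrFun (congrFun h6 (Sum.inl 0)) (Sum.inl 0)
  simp at h8
  apply h2
  linear_combination h8

theorem ne_two_of {r : ℕ} (hr : r.Prime) (h5 : 5 ≤ r) [Fintype F]
    (h4 : orderOf ((Fintype.card F : ℕ) : ZMod r) = 4) {x : symplecticGroup (Fin 2) F} (hx : orderOf x = r) {t e : F}
    (hxp : x.1.charpoly = pol t e) : e ≠ 2 := by
  rintro rfl
  have hxr : x ^ r = 1 := by rw [← hx]; exact pow_orderOf_eq_one x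
  have hx1 : x ≠ 1 := by
    rintro rfl
    rw [orderOf_one] at hx
    omega
  have hirr : Irreducible x.1.charpoly := by
    refine SpF.irr_charpoly hr h4 (by simp) (M := x.1) ?_ (fun h1 => hx1 (Subtype.ext h1))
    have := congrArg Subtype.val hxr
    rwa [SubmonoidClass.coe_pow] at this
  rw [hxp] at hirr
  have hf : pol t 2 = (X ^ 2 + 1) * (X ^ 2 - C t * X + 1) := by
    unfold pol
    rw [show (C (2 : F) : F[X]) = 2 from rfl]
    ring
  rcases hirr.isUnit_or_isUnit hf with h | h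
  · have h1 := natDegree_eq_zero_of_isUnit h
    have h2 : (X ^ 2 + 1 : F[X]).natDegree = 2 := by compute_degree!
    omega
  · have h1 := natDegree_eq_zero_of_isUnit h
    have h2 : (X ^ 2 - C t * X + 1 : F[X]).natDegree = 2 := by compute_degree!
    omega


/-- the row, `q` odd, from the framed elements -/
theorem row3_odd [Fintype F] (hodd : Fintype.card F % 2 = 1) (hF : 4 ≤ Fintype.card F) {r : ℕ} (hr : r.Prime)
    (h5 : 5 ≤ r) (h4 : orderOf ((Fintype.card F : ℕ) : ZMod r) = 4) {x : symplecticGroup (Fin 2) F}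
    (hx : orderOf x = r) {t e : F} (hxp : x.1.charpoly = pol t e)
    (gen : ∀ G : Matrix (Fin 4) (Fin 4) F, Sp G → ∀ e1 e2 : Fin 4 → F, w e1 e2 = 0 → w e2 (G *ᵥ e1) = 0 →
      w e1 (G *ᵥ e1) ≠ 0 → w e2 (G *ᵥ e2) ≠ 0 → Good t e G) : H210.TC.Row3 (PSp 2 F) := by
  have h2 : (2 : F) ≠ 0 := by
    intro h
    have h7 : ringChar F = 2 := by
      have h8 : ringChar F ∣ 2 := ringChar.dvd (by exact_mod_cast h)
      exact ((Nat.dvd_prime Nat.prime_two).1 h8).resolve_left (CharP.ringChar_ne_one)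
    have h9 := FiniteField.even_card_iff_char_two.1 h7
    omega
  have ht := ne_zero_of hr h5 h2 h4 hx hxp
  have he := ne_two_of hr h5 h4 hx hxp
  refine SpF.row3_sign hr h5 h4 hx fun g hg => ?_
  have hGood : Good t e (toF g.1) := by
    have hG : Sp (toF g.1) := sp_toF.2 g.2
    have hc : ∀ c : F, toF g.1 ≠ c • 1 := by
      intro c hc
      apply hg
      rw [LieClassical.SympCenter.mem_center_iff]
      refine ⟨c, ?_⟩
      apply toF.injective
      rw [hc, map_smul, map_one]
    by_cases hGG : toF g.1 * toF g.1 = 1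
    · exact good_inv hodd h2 he hG hGG (fun h => hc 1 (by rw [h, one_smul])) (fun h => hc (-1) (by rw [h, neg_smul, one_smul]))
    · rcases H7.TC.frame4 hF (toF g.1) (fun x y => hG.w x y) hGG with ⟨c, k, v, hcc, hv⟩ | ⟨e1, e2, a1, a2, a3, a4⟩
      · have hk : k ≠ 0 := by
          rintro rfl
          apply hc c
          apply Matrix.mulVec_injective
          ext x
          rw [hv, Matrix.smul_mulVec, Matrix.one_mulVec]
          simp
        have hv0 : v ≠ 0 := by
          rintro rfl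
          apply hc c
          apply Matrix.mulVec_injective
          ext x
          rw [hv, Matrix.smul_mulVec, Matrix.one_mulVec]
          simp
        rcases mul_self_eq_one_iff.1 hcc with rfl | rfl
        · exact good_transv h2 ht he hk hv0 (fun x => by rw [hv, one_smul]; rfl)
        · have h6 : Good t e (-toF g.1) := by
            refine good_transv h2 ht he hk hv0 (fun x => ?_)
            rw [Matrix.neg_mulVec, hv, neg_smul, one_smul, neg_neg]
            rfl
          have h7 := h6.neg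
          rwa [neg_neg] at h7
      · exact gen _ hG e1 e2 a1 a2 a3 a4
  obtain ⟨A, B, hA, hB, hAB, h1, h3⟩ := hGood
  obtain ⟨A, rfl⟩ := toF.surjective A
  obtain ⟨B, rfl⟩ := toF.surjective B
  refine ⟨⟨A, sp_toF.1 hA⟩, ⟨B, sp_toF.1 hB⟩, ?_, ?_, ?_⟩
  · rcases hAB with h | h
    · left
      apply toF.injective
      rw [map_mul]
      exact h
    · right
      apply toF.injective
      rw [map_mul, map_neg]
      exact h
  · rw [hxp, ← h1, charpoly_toF]
  · rw [hxp, ← h3, charpoly_toF]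

end Cfsg.Agent.H812.TC.OddRow
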