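import Cfsg.Agent.H812.TC.EvenRow
import Cfsg.Agent.H812.TC.OddGen
import Cfsg.Agent.H812.TC.Small
import Cfsg.Agent.H309.SF.Row7
import Cfsg.Agent.H910.TC.Sp43

/-!
# S2464, row `PSp_4(q)`, all `q ≥ 3` (helper812, helper7, helper309, helper767, helper877, helper910)
-/

set_option autoImplicit false

namespace Cfsg.Agent.H812.TC.Row

/-- **the row `PSp₄(q)`**, `q ≥ 3` -/
theorem row3_psp_four {F : Type} [Field F] [Fintype F] (h3 : 3 ≤ Fintype.card F) : H210.TC.Row3 (Cfsg.PSp 2 F) := by
  rcases Nat.mod_two_eq_zero_or_one (Fintype.card F) with he | ho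
  · exact EvenRow.row3_even h3 he
  · rcases Nat.lt_or_ge (Fintype.card F) 8 with h8 | h8
    · have h : Fintype.card F = 3 ∨ Fintype.card F = 5 ∨ Fintype.card F = 7 := by omega
      rcases h with h | h | h
      · exact H910.TC.row3_psp43 (by rw [Nat.card_eq_fintype_card, h])
      · exact Small.row3_psp_two_five h
      · exact H309.SF.row3_psp_two_seven h
    · exact OddRow.row3_odd_gen ho h8

end Cfsg.Agent.H812.TC.Row
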