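import Cfsg.Agent.H156.SqPSp
import Cfsg.Agent.H210.TC.Row

/-!
# S2464, row `PSp_4(q)`, a prime `r ≥ 5` divides `q - 1` (helper812)

The regular element `diag(a, a², a⁻¹, a⁻²)` of order `r` of the split torus.
-/

set_option autoImplicit false
set_option linter.unusedSectionVars false

namespace Cfsg.Agent.H812.TC.SpSplit

open CoxeterSystem Cfsg.Agent.ChevalleyStructure.CoxeterGeom Cfsg.Agent.Tits.Roots Cfsg.Agent.Tits.Core
  Cfsg.Agent.Nodes.Reps Cfsg.Agent.Nodes.BNOf Cfsg.Agent.Nodes.StabComb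
  Cfsg.Agent.Nodes.RGDLib Cfsg.Agent.Nodes.Bruhat Cfsg.Agent.Nodes.OppDec Cfsg.Agent.Nodes.LeviDec
open Cfsg.Agent.Nodes
open Cfsg.Agent.Nodes.TypeC
open Cfsg.Agent.TitsThree.Siegel Cfsg.Agent.TitsThree.WittFrame Cfsg.Agent.TitsThree.WittWeyl
open Cfsg.Agent.Nodes.WittRoot (XG ZG PG PG_ne PG_self Amb Mono)
open Cfsg.Agent.Nodes.WittRGD (Tor b_ne_zero)
open Cfsg.Agent.H162.GaussSL Cfsg.Agent.H162.GaussReg Cfsg.Agent.H162.GaussLevi Cfsg.Agent.H162.GaussMain
open Cfsg.Agent.H156.SqPhi Cfsg.Agent.H156.SqBlk Cfsg.Agent.H156.SqTor Cfsg.Agent.H156.SqFix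
open Cfsg.Agent.TitsThree.SpIdent
open Cfsg.Agent.OddHalf.NI.Mult
open Cfsg.Agent.OddHalf.NI

/-- the eigenvalues -/
def ch {F : Type} [Field F] (a : Fˣ) (i : Fin 2) : Fˣ := if i = 0 then a else a * a

theorem lam_ne_one {F : Type} [Field F] {a : Fˣ} {r : ℕ} (hr : r.Prime) (h5 : 5 ≤ r) (ha : orderOf a = r)
    (x y : Fin 2 × Bool) (h : x.1 ≠ y.1 ∨ x = y) : lam (ch a) x * lam (ch a) y ≠ 1 := by
  have key : ∀ k : ℕ, 1 ≤ k → k < 5 → a ^ k ≠ 1 := fun k h1 h2 h3 => by
    have := orderOf_le_of_pow_eq_one (by omega) h3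
    omega
  have key' : ∀ k : ℕ, 1 ≤ k → k < 5 → (a : F) ^ k ≠ 1 := fun k h1 h2 h3 => by
    apply key k h1 h2
    apply Units.ext
    rw [Units.val_pow_eq_pow_val, h3, Units.val_one]
  have ha0 : (a : F) ≠ 0 := a.ne_zero
  have e1 := key' 1 (by norm_num) (by norm_num)
  have e2 := key' 2 (by norm_num) (by norm_num)
  have e3 := key' 3 (by norm_num) (by norm_num)
  have e4 := key' 4 (by norm_num) (by norm_num)
  obtain ⟨i, s⟩ := x
  obtain ⟨j, t⟩ := y
  fin_cases i <;> fin_cases j <;> cases s <;> cases t <;> simp [lam, ch] at h ⊢ <;> intro hh <;>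
    first
    | exact key 1 (by norm_num) (by norm_num) (by rw [hh, one_pow])
    | exact e1 (by field_simp at hh; linear_combination hh)
    | exact e1 (by field_simp at hh; linear_combination -hh)
    | exact e2 (by field_simp at hh; linear_combination hh)
    | exact e2 (by field_simp at hh; linear_combination -hh)
    | exact e3 (by field_simp at hh; linear_combination hh)
    | exact e3 (by field_simp at hh; linear_combination -hh)
    | exact e4 (by field_simp at hh; linear_combination hh)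
    | exact e4 (by field_simp at hh; linear_combination -hh)

theorem row3_split {F : Type} [Field F] [Fintype F] {r : ℕ} (hr : r.Prime) (h5 : 5 ≤ r) (hd : r ∣ Fintype.card F - 1) :
    H210.TC.Row3 (Cfsg.PSp 2 F) := by
  classical
  have hF : 4 ≤ Fintype.card F := by
    have h1 : 1 < Fintype.card F := Fintype.one_lt_card
    have := Nat.le_of_dvd (by omega) hd
    omega
  obtain ⟨a, ha⟩ : ∃ a : Fˣ, orderOf a = r := by
    have : Fact r.Prime := ⟨hr⟩
    refine exists_prime_orderOf_dvd_card r ?_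
    rwa [Fintype.card_units]
  obtain ⟨p, hp⟩ := CharP.exists F
  have hpp : Fact p.Prime := ⟨CharP.char_is_prime F p⟩
  have : Finite (CoxeterMatrix.B 2).Group := TypeC.finite_W (CoxeterMatrix.B 2).toCoxeterSystem
  have : Finite ((Fin 2 ⊕ Fin 2 → F) ≃ₗ[F] (Fin 2 ⊕ Fin 2 → F)) :=
    Finite.of_injective (fun g : (Fin 2 ⊕ Fin 2 → F) ≃ₗ[F] (Fin 2 ⊕ Fin 2 → F) =>
      (g : (Fin 2 ⊕ Fin 2 → F) → (Fin 2 ⊕ Fin 2 → F))) DFunLike.coe_injective
  have hA : Amb (frame 2 F) (isos (form 2 F)) := WittU.amb_Sp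
  have hAT := WittAll.AmbT.of_amb hA p
  have hσ : ∀ c, (form 2 F).σ c = c := fun c => rfl
  have R := rgd_restrict (WittAll.rgdC hAT (p0 := adm (1 : F)) one_ne_zero
    (CoxeterMatrix.B 2).toCoxeterSystem) (isos (form 2 F)) (fun x _ => hA.rg_le x)
    (fun i => WittAll.nn_mem hAT (adm (1 : F)) i)
  have hG1 : G1 (CoxeterMatrix.B 2).toCoxeterSystem (isCartan 2)
      (fun x => (WittRoot.rg (frame 2 F) x).subgroupOf (isos (form 2 F))) = ⊤ := by
    apply SpClosed.gen (by omega)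
    · intro i
      exact X_le_G1 (X := fun x => (WittRoot.rg (frame 2 F) x).subgroupOf (isos (form 2 F)))
        (isRoot_sr _ _ i)
    · intro i
      exact X_le_G1 (X := fun x => (WittRoot.rg (frame 2 F) x).subgroupOf (isos (form 2 F)))
        (isRoot_sr _ _ i).neg
  have C := WittCoord.coord (SpClosed.lf (F := F) (m := 2)) hA
  have hconn := Chart.Ty.irrC 2 (by omega)
  have hsimp : IsSimpleGroup (Cfsg.PSp 2 F) := Cfsg.Agent.S0270.result 2 (by omega) fun _ => by omega
  have hs : tor (frame 2 F) (ch a) ∈ isos (form 2 F) := isIso_Phi (frame 2 F) _ hσ _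
  have hnf : NoFix (CoxeterMatrix.B 2).toCoxeterSystem (isCartan 2)
      (fun x => (WittRoot.rg (frame 2 F) x).subgroupOf (isos (form 2 F))) (JJ 2 1) ⟨tor (frame 2 F) (ch a), hs⟩ :=
    noFixC hσ hs hA.iso (tor_apply _ _) (fun w hw => tor_V0 _ _ hw)
      (fun x y hxy h => lam_ne_one hr h5 ha x y (Or.inl hxy))
      (fun x q _ hc => by
        have h1 : q.w = 0 := q.ok
        have h2 : q.c = 0 := by
          by_contra h2
          exact lam_ne_one hr h5 ha x x (Or.inr rfl) (mul_right_cancel₀ h2 (by rw [hc, one_mul]))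
        exact Frame.Adm.ext h1 h2)
  have hJ : JJ 2 1 = ∅ := by
    ext l
    simp [JJ]
  rw [hJ] at hnf
  have hT : (⟨tor (frame 2 F) (ch a), hs⟩ : isos (form 2 F)) ∈
      (Tor (frame 2 F) (isos (form 2 F))).subgroupOf (isos (form 2 F)) := tor_mem_Tor hs
  have hinv : ∃ y : isos (form 2 F), y * ⟨tor (frame 2 F) (ch a), hs⟩ * y⁻¹ =
      (⟨tor (frame 2 F) (ch a), hs⟩ : isos (form 2 F))⁻¹ := by
    obtain ⟨y, hy, hm⟩ := exists_monoZ hA (p := adm (1 : F)) one_ne_zero Finset.univ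
    obtain ⟨h1, -⟩ := hinv_of (k := 2) hσ hA (χ := ch a) (S := Finset.univ)
      (fun j hj => absurd (Finset.mem_univ j) hj) hy hm (ι := id) (fun i => Finset.mem_univ _)
    exact ⟨⟨y, hy⟩, Subtype.ext h1⟩
  -- order
  let π := toPSp (m := 2) (F := F)
  have hπ : Function.Surjective π := toPSp_surjective
  have hker := WittAll.ker_le_center (TitsThree.KInstSp.model 2 F)
  let s₀ : isos (form 2 F) := ⟨tor (frame 2 F) (ch a), hs⟩
  have hsr : s₀ ^ r = 1 := by
    have h1 : ∀ k : ℕ, tor (frame 2 F) (ch a) ^ k = tor (frame 2 F) (ch a ^ k) := by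
      intro k
      induction k with
      | zero =>
        rw [pow_zero, pow_zero]
        symm
        have := tor_mul (frame 2 F) (1 : Fin 2 → Fˣ) 1
        rw [one_mul] at this
        exact (mul_eq_left.1 this.symm)
      | succ k ih => rw [pow_succ, pow_succ, ih, tor_mul]
    apply Subtype.ext
    show tor (frame 2 F) (ch a) ^ r = 1
    rw [h1]
    have h2 : ch a ^ r = 1 := by
      funext i
      rw [Pi.pow_apply, Pi.one_apply]
      unfold ch
      split_ifs
      · rw [← ha]; exact pow_orderOf_eq_one a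
      · rw [mul_pow, ← ha, pow_orderOf_eq_one, one_mul]
    rw [h2]
    have := tor_mul (frame 2 F) (1 : Fin 2 → Fˣ) 1
    rw [one_mul] at this
    exact (mul_eq_left.1 this.symm)
  have hall : ∀ g : Cfsg.PSp 2 F, ∃ u v : Cfsg.PSp 2 F, g = (u * π s₀ * u⁻¹) * (v * π s₀ * v⁻¹) := by
    intro g
    have key : ∀ g' : isos (form 2 F), π g' = g → (g' ∉ (RGD.B (CoxeterMatrix.B 2).toCoxeterSystem (isCartan 2)
        ((Tor (frame 2 F) (isos (form 2 F))).subgroupOf (isos (form 2 F)))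
        (fun x => (WittRoot.rg (frame 2 F) x).subgroupOf (isos (form 2 F)))).normalCore ∨ g' = 1) →
        ∃ x y : Cfsg.PSp 2 F, g = (x * π s₀ * x⁻¹) * (y * π s₀ * y⁻¹) := by
      intro g' hg' h1
      obtain ⟨x, y, e⟩ := main0 R hG1 C hconn hT hnf hinv h1
      refine ⟨π x, π y, ?_⟩
      rw [← hg']
      conv_lhs => rw [e]
      simp only [map_mul, map_inv]
      rfl
    by_cases hg1 : g = 1
    · exact key 1 (by rw [map_one, hg1]) (Or.inr rfl)
    · obtain ⟨g', hg'⟩ := hπ g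
      refine key g' hg' (Or.inl fun h1 => hg1 ?_)
      rw [← hg']
      exact core_le_ker R π hπ hker h1
  have hne : π s₀ ≠ 1 := by
    intro h1
    have h2 : ∀ g : Cfsg.PSp 2 F, g = 1 := fun g => by
      obtain ⟨u, v, e⟩ := hall g
      rw [e, h1]
      group
    obtain ⟨x, hx⟩ := exists_ne (1 : Cfsg.PSp 2 F)
    exact hx (h2 x)
  have ho : orderOf (π s₀) = r := by
    have h1 : orderOf (π s₀) ∣ r := orderOf_dvd_of_pow_eq_one (by rw [← map_pow, hsr, map_one])
    rcases (Nat.dvd_prime hr).1 h1 with h2 | h2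
    · exact absurd (orderOf_eq_one_iff.1 h2) hne
    · exact h2
  refine H210.TC.Row3.of_sq (x := π s₀) (by rw [ho]; exact hr) ?_ fun g _ => hall g
  rw [ho]
  have h2 : Nat.Coprime r 2 := (Nat.coprime_primes hr Nat.prime_two).2 (by omega)
  have h3 : Nat.Coprime r 3 := (Nat.coprime_primes hr Nat.prime_three).2 (by omega)
  exact Nat.Coprime.mul_right h2 h3

end Cfsg.Agent.H812.TC.SpSplit
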